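import Cfsg.Agent.Lib.SubfieldMax.SymForm.Space

/-!
One irrational element attached to a rational isotropic vector gives all transvection groups.
-/

set_option autoImplicit false

namespace Cfsg.Agent.Lib.SubfieldMax.SymForm

open Matrix Cfsg.Agent.Lib.Subspaces.Transvection Cfsg.Agent.Lib.Subspaces.FormVec
  Cfsg.Agent.Lib.Subspaces.UnitaryForm Cfsg.Agent.Lib.Subspaces.UnitaryGen
  Cfsg.Agent.Lib.SubfieldMax.Linear Cfsg.Agent.Lib.SubfieldMax.RatLin
  Cfsg.Agent.Lib.SubfieldMax.Unitary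

variable {ι : Type} [Fintype ι] [DecidableEq ι] {F : Type*} [Field F]

/-- Rational, up to a multiple of `w`. -/
def ModW (F₀ : Subfield F) (w x : ι → F) : Prop :=
  ∃ (r : ι → F) (μ : F), Rat F₀ r ∧ x = r + μ • w

/-- Some element attached to a rational isotropic vector has an irrational parameter. -/
def GoodSym (F₀ : Subfield F) (f : (ι → F) → (ι → F) → F) (M : Subgroup (GL ι F)) : Prop :=
  ∃ (w x : ι → F) (c : F) (g : GL ι F), Rat F₀ w ∧ f w w = 0 ∧ w ≠ 0 ∧ f x w = 0 ∧ g ∈ M ∧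
    IsS f w x c g ∧ ¬ ModW F₀ w x

/-- The parameters of the elements of the group attached to `w`. -/
def InL (f : (ι → F) → (ι → F) → F) (M : Subgroup (GL ι F)) (w x : ι → F) : Prop :=
  f x w = 0 ∧ ∃ c, ∃ g ∈ M, IsS f w x c g

namespace Sym

variable {σ : F ≃+* F} {F₀ : Subfield F} {f : (ι → F) → (ι → F) → F} {M : Subgroup (GL ι F)}
  (S : Sym σ F₀ f M)
include S

theorem half_mem {w : ι → F} (hw : Rat F₀ w) : -(f w w) / 2 ∈ F₀ :=
  div_mem (neg_mem (S.rat w w hw hw)) S.two_mem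

theorem inL_rat {w r : ι → F} (hw : Rat F₀ w) (hr : Rat F₀ r) (hww : f w w = 0) (hrw : f r w = 0) :
    InL f M w r :=
  ⟨hrw, _, _, S.hR w r hw hr hww hrw, sgen_isS S.herm hww hrw _⟩

theorem inL_add {w x x' : ι → F} (hww : f w w = 0) (h : InL f M w x) (h' : InL f M w x') :
    InL f M w (x + x') := by
  obtain ⟨hx, c, g, hg, hgS⟩ := h
  obtain ⟨hx', c', g', hg', hgS'⟩ := h'
  exact ⟨by rw [S.herm.add_left, hx, hx', add_zero], _, _, M.mul_mem hg hg',
    IsS.mul S.herm hgS hgS' hww hx hx'⟩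

theorem inL_neg {w x : ι → F} (hww : f w w = 0) (h : InL f M w x) : InL f M w (-x) := by
  obtain ⟨hx, c, g, hg, hgS⟩ := h
  exact ⟨by rw [← neg_one_smul F x, S.herm.smul_left, hx, mul_zero], _, _, M.inv_mem hg,
    IsS.inv S.herm hgS hww hx⟩

theorem inL_sub {w x x' : ι → F} (hww : f w w = 0) (h : InL f M w x) (h' : InL f M w x') :
    InL f M w (x - x') := by
  rw [sub_eq_add_neg]
  exact S.inL_add hww h (S.inL_neg hww h')

theorem inL_conj {w x : ι → F} (h : InL f M w x) {k : GL ι F} (hk : k ∈ M)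
    (hkw : (k : Matrix ι ι F) *ᵥ w = w) : InL f M w ((k : Matrix ι ι F) *ᵥ x) := by
  obtain ⟨hx, c, g, hg, hgS⟩ := h
  refine ⟨?_, _, _, M.mul_mem (M.mul_mem hk hg) (M.inv_mem hk), IsS.conj S.herm hgS (S.iso k hk) hkw⟩
  rw [← hkw, S.iso k hk, hx]

/-- The basic step: from `e • y` to multiples of `p` and vectors orthogonal to `p`. -/
theorem inL_step [Finite F] {e : F} {w y p : ι → F} (hw : Rat F₀ w) (hww : f w w = 0)
    (hy : Rat F₀ y) (hey : InL f M w (e • y)) (hp : Rat F₀ p) (hpp : f p p = 0) (hpw : f p w = 0)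
    (hyp : f y p ≠ 0) :
    (∀ a ∈ F₀, InL f M w (e • (a • p))) ∧
      ∀ r, Rat F₀ r → f r w = 0 → f r p = 0 → InL f M w (e • r) := by
  have hf := S.herm
  have h2 := S.two
  set α := f y p
  have hα : α ∈ F₀ := S.rat y p hy hp
  have hD : ∀ r, Rat F₀ r → f r w = 0 → f r p = 0 →
      InL f M w (e • (α • r + (-(f r r) / 2 * α - f y r) • p)) := by
    intro r hr hrw hrp
    have hS := sgen_isS hf hpp hrp (-(f r r) / 2)
    have hkw : (sgen f p r (-(f r r) / 2) : Matrix ι ι F) *ᵥ w = w := by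
      rw [hS, swap_eq_zero hf hpw, swap_eq_zero hf hrw]
      simp
    have h1 := S.inL_sub hww (S.inL_conj hey (S.hR p r hp hr hpp hrp) hkw) hey
    convert h1 using 1
    rw [hS]
    simp only [hf.smul_left, α]
    module
  have hsq : ∀ r, Rat F₀ r → f r w = 0 → f r p = 0 → ∀ t ∈ F₀,
      InL f M w (e • ((t ^ 2 * (-(f r r) * α)) • p)) := by
    intro r hr hrw hrp t ht
    have h1 := hD (t • r) (hr.smul ht) (by rw [hf.smul_left, hrw, mul_zero])
      (by rw [hf.smul_left, hrp, mul_zero])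
    have h1' := hD ((-t) • r) (hr.smul (neg_mem ht)) (by rw [hf.smul_left, hrw, mul_zero])
      (by rw [hf.smul_left, hrp, mul_zero])
    have h := S.inL_add hww h1 h1'
    convert h using 1
    simp only [hf.smul_left, smul_right hf, map_neg, S.sig ht]
    match_scalars <;> (field_simp; ring)
  have hline : ∀ a ∈ F₀, InL f M w (e • (a • p)) := by
    intro a ha
    obtain ⟨r, hr, hrw, hrp, hrr⟩ := S.aniso hw hp
    have hne : -(f r r) * α ≠ 0 := mul_ne_zero (neg_ne_zero.2 hrr) hyp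
    set m := a / (-(f r r) * α)
    have hm : m ∈ F₀ := div_mem ha (mul_mem (neg_mem (S.rat r r hr hr)) hα)
    have h := S.inL_sub hww (hsq r hr hrw hrp _ (div_mem (add_mem hm (one_mem _)) S.two_mem))
      (hsq r hr hrw hrp _ (div_mem (sub_mem hm (one_mem _)) S.two_mem))
    convert h using 1
    rw [← smul_sub, ← sub_smul]
    congr 2
    rw [← sub_mul, show ((m + 1) / 2) ^ 2 - ((m - 1) / 2) ^ 2 = m by field_simp; ring,
      div_mul_cancel₀ _ hne]
  refine ⟨hline, fun r hr hrw hrp => ?_⟩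
  have hαi : α⁻¹ ∈ F₀ := inv_mem hα
  have h := S.inL_sub hww
    (hD (α⁻¹ • r) (hr.smul hαi) (by rw [hf.smul_left, hrw, mul_zero])
      (by rw [hf.smul_left, hrp, mul_zero]))
    (hline _ (sub_mem (mul_mem (S.half_mem (hr.smul hαi)) hα) (S.rat y _ hy (hr.smul hαi))))
  convert h using 1
  rw [← smul_sub, add_sub_cancel_right, smul_inv_smul₀ hyp]

/-- A good element gives a vector with all parameters. -/
theorem exists_full [Finite F] {e : F} (he : σ e = -e) (he0 : e ≠ 0) (hG : GoodSym F₀ f M) :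
    ∃ w, Rat F₀ w ∧ f w w = 0 ∧ w ≠ 0 ∧ ∀ z, f z w = 0 → InL f M w z := by
  have hf := S.herm
  obtain ⟨w, x, c, g, hw, hww, hw0, hxw, hg, hgS, hx⟩ := hG
  refine ⟨w, hw, hww, hw0, ?_⟩
  have hsplit : ∀ z1 z2, Rat F₀ z1 → Rat F₀ z2 → f (z1 + e • z2) w = 0 →
      f z1 w = 0 ∧ f z2 w = 0 := fun z1 z2 h1 h2 h => by
    rw [hf.add_left, hf.smul_left] at h
    exact S.re_im he he0 (S.rat _ _ h1 hw) (S.rat _ _ h2 hw) h
  obtain ⟨x1, x2, hx1, hx2, rfl⟩ := S.split he he0 x
  obtain ⟨h1w, h2w⟩ := hsplit x1 x2 hx1 hx2 hxw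
  have hey : InL f M w (e • x2) := by
    have h := S.inL_sub hww (⟨hxw, c, g, hg, hgS⟩ : InL f M w (x1 + e • x2))
      (S.inL_rat hw hx1 hww h1w)
    simpa using h
  have hn : x2 ∉ Submodule.span F (Set.range ![w]) := fun hm => hx (by
    rw [show Set.range ![w] = {w} by simp [Matrix.range_cons]] at hm
    obtain ⟨d, hd⟩ := Submodule.mem_span_singleton.1 hm
    exact ⟨x1, e * d, hx1, by rw [← hd, smul_smul]⟩)
  obtain ⟨p, hp, hpp, hpw, hpy⟩ := S.iso_pair hw hww hx2 hn
  obtain ⟨hpA, -⟩ := S.inL_step hw hww hx2 hey hp hpp hpw (fun h => hpy (swap_eq_zero hf h))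
  have hone : ∀ i, Rat F₀ ((![w] : Fin 1 → ι → F) i) := fun i => by fin_cases i; exact hw
  have hpn : p ∉ Submodule.span F (Set.range ![w]) := fun hm => by
    rw [show Set.range ![w] = {w} by simp [Matrix.range_cons]] at hm
    obtain ⟨d, rfl⟩ := Submodule.mem_span_singleton.1 hm
    exact hpy (by rw [hf.smul_left, swap_eq_zero hf h2w, mul_zero])
  obtain ⟨q, hq, hqq, hqo, hqp⟩ :=
    S.dual_iso ![w] hone hp hpn hpp (fun i => by fin_cases i; exact hpw)
  have hqw : f q w = 0 := hqo 0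
  have hpq : f p q = 1 := by rw [S.comm hp hq, hqp]
  obtain ⟨-, hperp⟩ := S.inL_step hw hww hp (by simpa using hpA 1 (one_mem _)) hq hqq hqw
    (by rw [hpq]; exact one_ne_zero)
  intro z hz
  obtain ⟨z1, z2, hz1, hz2, rfl⟩ := S.split he he0 z
  obtain ⟨hz1w, hz2w⟩ := hsplit z1 z2 hz1 hz2 hz
  have hk := S.rat z2 q hz2 hq
  have h := S.inL_add hww (hpA _ hk)
    (hperp (z2 - f z2 q • p) (hz2.sub (hp.smul hk))
      (by rw [form_sub_left S.hl, hf.smul_left, hz2w, hpw, mul_zero, sub_zero])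
      (by rw [form_sub_left S.hl, hf.smul_left, hpq, mul_one, sub_self]))
  rw [← smul_add, add_sub_cancel] at h
  exact S.inL_add hww (S.inL_rat hw hz1 hww hz1w) h

/-- The transvection group at such a vector. -/
theorem unitCenter_full [Finite F] {w : ι → F} (hw : Rat F₀ w) (hww : f w w = 0)
    (hall : ∀ z, f z w = 0 → InL f M w z) : UnitCenter σ f M w := by
  have hf := S.herm
  refine ⟨hww, fun a ha => ?_⟩
  have hone : ∀ i, Rat F₀ ((![w] : Fin 1 → ι → F) i) := fun i => by fin_cases i; exact hw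
  obtain ⟨p, hp, hpp, hpn, hpo⟩ := S.iso_out ![w] hone ![w] hone
    (fun i => Submodule.subset_span ⟨i, rfl⟩) (by have := S.card; omega)
  obtain ⟨q, hq, hqq, hqo, hqp⟩ := S.dual_iso ![w] hone hp hpn hpp hpo
  have hpq : f p q = 1 := by rw [S.comm hp hq, hqp]
  have hpw : f p w = 0 := hpo 0
  have hqw : f q w = 0 := hqo 0
  set x := (a / 2) • p
  have hxw : f x w = 0 := by rw [hf.smul_left, hpw, mul_zero]
  obtain ⟨-, c, g, hg, hgS⟩ := hall x hxw
  obtain ⟨-, c', g', hg', hgS'⟩ := hall q hqw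
  have hs : f (q + x) w = 0 := by rw [hf.add_left, hqw, hxw, add_zero]
  have h1 := IsS.mul hf hgS hgS' hww hxw hqw
  have h2 := IsS.inv hf (IsS.mul hf hgS' hgS hww hqw hxw) hww hs
  have h3 := IsS.mul hf h2 h1 hww (by rw [← neg_one_smul F (q + x), hf.smul_left, hs, mul_zero])
    (by rw [add_comm]; exact hs)
  convert M.mul_mem (M.inv_mem (M.mul_mem hg' hg)) (M.mul_mem hg hg') using 1
  refine gl_ext fun u => ?_
  rw [h3 u, utv_mulVec hf hww, show -(q + x) + (x + q) = 0 by abel, zero_right hf, smul_zero,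
    zero_smul, add_zero, sub_zero]
  congr 2
  have hneg : f (x + q) (-(q + x)) = - f (q + x) (q + x) := by
    rw [add_comm x q, ← neg_one_smul F (q + x), smul_right hf, map_neg, map_one, neg_one_mul]
  rw [hneg]
  have e1 : f x q = a / 2 := by rw [hf.smul_left, hpq, mul_one]
  have e2 : f q x = -a / 2 := by
    rw [hf.herm q x, e1, map_div₀, map_ofNat]
    linear_combination (norm := ring) ha / 2
  rw [e1, e2]
  have := S.two
  field_simp
  ring

/-- A good group has every isotropic vector as centre. -/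
theorem centres [Finite F] {e : F} (he : σ e = -e) (he0 : e ≠ 0) (hG : GoodSym F₀ f M) {v : ι → F}
    (hv : f v v = 0) : UnitCenter σ f M v := by
  have hf := S.herm
  obtain ⟨w, hw, hww, hw0, hall⟩ := S.exists_full he he0 hG
  have hcw := S.unitCenter_full hw hww hall
  obtain ⟨p, hp, hpp, -, hpw⟩ := S.dual_iso (![] : Fin 0 → ι → F) (fun i => i.elim0) hw
    (by simpa using hw0) hww (fun i => i.elim0)
  have hwp : f w p = 1 := by rw [S.comm hw hp, hpw]
  -- the images of `v`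
  have hmove : ∀ r, Rat F₀ r → f r p = 0 → f r w = 0 → ∀ u,
      sgen f p r (-(f r r) / 2) ∈ M ∧
        f ((sgen f p r (-(f r r) / 2) : Matrix ι ι F) *ᵥ u) w =
          f u w - f u r + -(f r r) / 2 * f u p := by
    intro r hr hrp hrw u
    refine ⟨S.hR p r hp hr hpp hrp, ?_⟩
    rw [sgen_isS hf hpp hrp _ u]
    simp only [hf.add_left, form_sub_left S.hl, hf.smul_left, hrw, hpw]
    ring
  obtain ⟨r0, hr0, hr0p, hr0w, hr00⟩ := S.aniso hp hw
  have hc0 : -(f r0 r0) / 2 ≠ 0 := div_ne_zero (neg_ne_zero.2 hr00) S.two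
  have main : ∀ v, f v v = 0 → f v w ≠ 0 → UnitCenter σ f M v := by
    intro v hv hvw
    obtain ⟨hh, hhw⟩ := hmove r0 hr0 hr0p hr0w w
    rw [hww, swap_eq_zero hf hr0w, hwp, zero_sub, neg_zero, zero_add, mul_one] at hhw
    have h1 := unitCenter_smul hf (unitCenter_conj hf hcw hh (S.iso _ hh))
      (f v w / (-(f r0 r0) / 2))
    set v1 := (f v w / (-(f r0 r0) / 2)) • ((sgen f p r0 (-(f r0 r0) / 2) : Matrix ι ι F) *ᵥ w)
    have hv1 : f v1 w = f v w := by rw [hf.smul_left, hhw, div_mul_cancel₀ _ hc0]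
    set β := f v w
    set x := β⁻¹ • (v - v1)
    obtain ⟨-, c, g, hg, hgS⟩ := hall x (by rw [hf.smul_left, form_sub_left S.hl, hv1]; simp [β])
    have hgv : (g : Matrix ι ι F) *ᵥ v1 = v + (c * β - f v1 x) • w := by
      rw [hgS v1, hv1, smul_inv_smul₀ hvw]
      module
    have h2 := unitCenter_conj hf h1 hg (S.iso _ hg)
    rw [hgv] at h2
    set μ := c * β - f v1 x
    have hσβ : σ β ≠ 0 := by simpa using hvw
    have hiso : μ * σ β + σ μ * β = 0 := by
      have h := h2.1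
      simp only [hf.add_left, add_right hf, hf.smul_left, smul_right hf, hv, hww] at h
      rw [hf.herm w v] at h
      linear_combination h
    have hskew : -μ / β + σ (-μ / β) = 0 := by
      rw [map_div₀, map_neg, div_add_div _ _ hvw hσβ, div_eq_zero_iff]
      left
      linear_combination -hiso
    have h3 := unitCenter_move hf hcw h2 hskew
    rw [hf.add_left, hf.smul_left, hww, mul_zero, add_zero, div_mul_cancel₀ _ hvw, neg_smul,
      add_neg_cancel_right] at h3
    exact h3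
  rcases eq_or_ne v 0 with rfl | hv0
  · exact ⟨hv, fun a _ => by rw [tv_zero_left]; exact M.one_mem⟩
  by_cases hvw : f v w = 0
  swap
  · exact main v hv hvw
  obtain ⟨r, hr, hrp, hrw, hne⟩ : ∃ r, Rat F₀ r ∧ f r p = 0 ∧ f r w = 0 ∧
      -f v r + -(f r r) / 2 * f v p ≠ 0 := by
    by_cases hvp : f v p = 0
    · obtain ⟨s, hs, hvs⟩ : ∃ s, Rat F₀ s ∧ f v s ≠ 0 := by
        by_contra hall
        push Not at hall
        exact formVec_ne_zero S.hl hf.nondegenerate hv0 (funext fun j =>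
          swap_eq_zero hf (hall _ (Rat.single j (one_mem _))))
      refine ⟨s - f s p • w - f s w • p,
        (hs.sub (hw.smul (S.rat _ _ hs hp))).sub (hp.smul (S.rat _ _ hs hw)), ?_, ?_, ?_⟩
      · simp only [form_sub_left S.hl, hf.smul_left, hpp, hwp]; ring
      · simp only [form_sub_left S.hl, hf.smul_left, hww, hpw]; ring
      · rw [hvp, mul_zero, add_zero, neg_ne_zero]
        simpa [sub_right hf, smul_right hf, hvw, hvp] using hvs
    · by_cases h : -f v r0 + -(f r0 r0) / 2 * f v p = 0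
      · refine ⟨(-1 : F) • r0, hr0.smul (neg_mem (one_mem _)), ?_, ?_, fun h' => ?_⟩
        · rw [hf.smul_left, hr0p, mul_zero]
        · rw [hf.smul_left, hr0w, mul_zero]
        · simp only [hf.smul_left, smul_right hf, map_neg, map_one] at h'
          have h4 : 2 * (-(f r0 r0) / 2 * f v p) = 0 := by linear_combination h + h'
          exact mul_ne_zero hc0 hvp ((mul_eq_zero.1 h4).resolve_left S.two)
      · exact ⟨r0, hr0, hr0p, hr0w, h⟩
  obtain ⟨hk, hkv⟩ := hmove r hr hrp hrw v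
  rw [hvw, zero_sub] at hkv
  have hkiso := S.iso _ hk
  have := unitCenter_conj hf (main _ (by rw [hkiso, hv]) (by rw [hkv]; exact hne))
    (M.inv_mem hk) (S.iso _ (M.inv_mem hk))
  rwa [gl_inv_mulVec] at this

end Sym

end Cfsg.Agent.Lib.SubfieldMax.SymForm
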