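import Cfsg.Agent.Lib.SubfieldMax.SymForm.Rigid
import Cfsg.Agent.Lib.SubfieldMax.Unitary.Main

/-!
Maximality of subfield subgroups of orthogonal type in special unitary groups of dimension at
least six.
-/

set_option autoImplicit false

namespace Cfsg.Agent.Lib.SubfieldMax.SymForm

open Matrix Cfsg.Agent.Lib.Subspaces.Transvection Cfsg.Agent.Lib.Subspaces.FormVec
  Cfsg.Agent.Lib.Subspaces.UnitaryForm Cfsg.Agent.Lib.Subspaces.UnitaryEichler
  Cfsg.Agent.Lib.Subspaces.UnitaryGen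
  Cfsg.Agent.Lib.SubfieldMax.Linear Cfsg.Agent.Lib.SubfieldMax.RatLin
  Cfsg.Agent.Lib.SubfieldMax.Unitary Cfsg.Agent.Lib.SubfieldMax.Form

variable {F : Type*} [Field F] [Fintype F] {n q : ℕ}

theorem maximal (hF : Fintype.card F = q ^ 2) (hn : 6 ≤ n) (hodd : Odd q) (F₀ : Subfield F)
    (hcard : Fintype.card F = Nat.card F₀ ^ 2) (P : GL (Fin n) F)
    (hP : Cfsg.Geo.IsFormRationalStructure (Cfsg.hermForm n F q) F₀ 1 P) :
    Cfsg.Geo.IsMaximalIn (Cfsg.GU n F q ⊓ Cfsg.Geo.specialLinear (Fin n) F)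
      (Cfsg.Geo.subfieldSubgroup F₀ P ⊓ (Cfsg.GU n F q ⊓ Cfsg.Geo.specialLinear (Fin n) F)) := by
  classical
  set ι := Fin n
  set f := pullForm n q P
  set σ := powAut hF
  set K := Cfsg.GU n F q ⊓ Cfsg.Geo.specialLinear (Fin n) F
  have hf : Cfsg.Geo.IsUnitaryForm σ f := pullForm_unitary hF P
  let c := (MulAut.conj P).toMonoidHom
  have hconj : ∀ (g : GL ι F) (u : ι → F), ((c g : GL ι F) : Matrix ι ι F) *ᵥ
      ((P : Matrix ι ι F) *ᵥ u) = (P : Matrix ι ι F) *ᵥ ((g : Matrix ι ι F) *ᵥ u) := by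
    intro g u
    show ((P * g * P⁻¹ : GL ι F) : Matrix ι ι F) *ᵥ _ = _
    rw [gl_mul_mulVec, gl_mul_mulVec, gl_inv_mulVec]
  have hgu : ∀ g : GL ι F, c g ∈ Cfsg.GU n F q ↔
      ∀ u v, f ((g : Matrix ι ι F) *ᵥ u) ((g : Matrix ι ι F) *ᵥ v) = f u v := by
    intro g
    rw [mem_GU_iff']
    constructor
    · intro h u v
      show Cfsg.hermForm n F q _ _ = _
      rw [← hconj g, ← hconj g]
      exact h _ _
    · intro h u v
      have := h (((P⁻¹ : GL ι F) : Matrix ι ι F) *ᵥ u) (((P⁻¹ : GL ι F) : Matrix ι ι F) *ᵥ v)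
      simp only [f, pullForm, ← hconj g, gl_mulVec_inv] at this
      exact this
  have hsl : ∀ g : GL ι F, c g ∈ Cfsg.Geo.specialLinear ι F ↔ g ∈ Cfsg.Geo.specialLinear ι F := by
    intro g
    have hN : (Cfsg.Geo.specialLinear ι F).Normal := MonoidHom.normal_ker _
    show P * g * P⁻¹ ∈ _ ↔ _
    refine ⟨fun h => ?_, fun h => hN.conj_mem g h P⟩
    simpa [mul_assoc] using hN.conj_mem _ h P⁻¹
  have hsub : ∀ g : GL ι F, c g ∈ Cfsg.Geo.subfieldSubgroup F₀ P ↔ RatUpTo F₀ g := by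
    intro g
    rw [Cfsg.Agent.Lib.SubfieldMax.Mem.mem_sub_iff]
    rw [show P⁻¹ * c g * P = g by show P⁻¹ * (P * g * P⁻¹) * P = g; group]
  have hrat : ∀ u v, Rat F₀ u → Rat F₀ v → f u v ∈ F₀ := fun u v hu hv => by
    simpa using (show (1 : F) * f u v ∈ F₀ from hP u v hu hv)
  obtain ⟨hfix₀, θ, hθ⟩ := index_two hF F₀ hcard
  obtain ⟨y₀, hy₀⟩ : ∃ y, σ y ≠ y := by
    by_contra hall
    push Not at hall
    exact hf.ne_refl (RingEquiv.ext hall)
  have hfix : ∀ x : F, σ x = x ↔ x ∈ F₀ := by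
    intro x
    refine ⟨fun hx => ?_, hfix₀ x⟩
    obtain ⟨a, ha, b, hb, rfl⟩ := hθ x
    rw [map_add, map_mul, hfix₀ a ha, hfix₀ b hb, add_right_inj] at hx
    by_cases hb0 : b = 0
    · rw [hb0, mul_zero, add_zero]; exact ha
    · exfalso
      have hθ' : σ θ = θ := mul_right_cancel₀ hb0 hx
      obtain ⟨a', ha', b', hb', rfl⟩ := hθ y₀
      exact hy₀ (by rw [map_add, map_mul, hfix₀ a' ha', hfix₀ b' hb', hθ'])
  have htwo : (2 : F) ≠ 0 := by
    intro h2
    have hc : ringChar F = 2 := CharP.ringChar_of_prime_eq_zero Nat.prime_two h2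
    have := FiniteField.even_card_of_char_two hc
    rw [hF] at this
    obtain ⟨j, rfl⟩ := hodd
    simp [Nat.pow_mod, Nat.add_mod, Nat.mul_mod] at this
  set e := y₀ - σ y₀
  have he : σ e = -e := by simp only [e, map_sub, hf.involutive, neg_sub]
  have he0 : e ≠ 0 := sub_ne_zero.2 (Ne.symm hy₀)
  -- settings for every group between
  have hS : ∀ M : Subgroup (GL ι F), Cfsg.Geo.subfieldSubgroup F₀ P ⊓ K ≤ M → M ≤ K →
      Sym σ F₀ f (M.comap c) := by
    intro M hHM hMK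
    refine ⟨hf, hfix, htwo, hrat, fun x hx => (hgu x).1 (hMK hx).1, fun w r hw hr hww hrw => ?_,
      by simpa using hn⟩
    have h2F : (2 : F) ∈ F₀ := by rw [← one_add_one_eq_two]; exact add_mem (one_mem _) (one_mem _)
    have hcm : -(f r r) / 2 ∈ F₀ := div_mem (neg_mem (hrat r r hr hr)) h2F
    refine hHM ⟨(hsub _).2 ⟨1, one_ne_zero, fun i j => by
        rw [one_mul]; exact sgen_entries hf hww hrw hrat hw hr hcm i j⟩,
      (hgu _).2 (sgen_isometry hf hww hrw ?_), (hsl _).2 (sgen_mem_specialLinear _ _ _ _)⟩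
    rw [hfix₀ _ hcm, ← add_div, eq_comm, eq_div_iff htwo]
    ring
  refine isMaximalIn_of inf_le_right ?_ ?_
  · have S := hS K inf_le_right le_rfl
    obtain ⟨a, ha, haa, han, -⟩ := S.iso_out (![] : Fin 0 → ι → F) (fun i => i.elim0)
      (![] : Fin 0 → ι → F) (fun i => i.elim0) (fun i => i.elim0) (by have := S.card; omega)
    have ha0 : a ≠ 0 := by simpa using han
    obtain ⟨b, hb, hbb, hbn, hbo⟩ := S.iso_out ![a] (fun i => by fin_cases i; exact ha)
      ![a] (fun i => by fin_cases i; exact ha) (fun i => Submodule.subset_span ⟨i, rfl⟩)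
      (by have := S.card; omega)
    have hba : f b a = 0 := hbo 0
    have hb0 : b ≠ 0 := fun e => hbn (e ▸ Submodule.zero_mem _)
    have hp : IsPlane f a b := ⟨haa, hbb, swap_eq_zero hf hba⟩
    refine ⟨c (eich σ f e a b), ⟨(hgu _).2 (eich_isometry hf hp _),
      (hsl _).2 (eich_mem_specialLinear _ _ _)⟩, fun hmem => ?_⟩
    obtain ⟨d, hd, hent⟩ := (hsub _).1 hmem.1
    have hrv : ∀ v, Rat F₀ v →
        Rat F₀ (d • (((eich σ f e a b : GL ι F) : Matrix ι ι F) *ᵥ v)) := fun v hv i => by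
      rw [Pi.smul_apply, smul_eq_mul, mulVec, dotProduct, Finset.mul_sum]
      exact sum_mem fun j _ => by rw [← mul_assoc]; exact mul_mem (hent i j) (hv j)
    have hdF : d ∈ F₀ := by
      obtain ⟨i, hi⟩ := Function.ne_iff.1 ha0
      have := hrv a ha i
      rw [eich_fix hf hp _ haa hp.orth, Pi.smul_apply, smul_eq_mul] at this
      simpa [mul_assoc, mul_inv_cancel₀ (show a i ≠ 0 from hi)] using mul_mem this (inv_mem (ha i))
    obtain ⟨y, hy, -, hyo, hya⟩ := S.dual_iso ![b] (fun i => by fin_cases i; exact hb) ha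
      (by
        rw [show Set.range ![b] = {b} by simp [Matrix.range_cons]]
        exact not_mem_span_swap ha0 (by simpa [Matrix.range_cons] using hbn))
      haa (fun i => by fin_cases i; exact hp.orth)
    obtain ⟨i, hi⟩ := Function.ne_iff.1 hb0
    have h1 := hrv y hy i
    rw [eich_mulVec hf hp, show f y b = 0 from hyo 0, mul_zero, zero_smul, sub_zero,
      hya, mul_one, Pi.smul_apply, Pi.add_apply, Pi.smul_apply, smul_eq_mul,
      smul_eq_mul] at h1
    have h2 := mul_mem (sub_mem (mul_mem (inv_mem hdF) h1) (hy i)) (inv_mem (hb i))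
    rw [← mul_assoc, inv_mul_cancel₀ hd, one_mul, add_sub_cancel_left, mul_assoc,
      mul_inv_cancel₀ (show b i ≠ 0 from hi), mul_one] at h2
    have h3 := hfix₀ e h2
    rw [he] at h3
    exact he0 ((mul_eq_zero.1 (show 2 * e = 0 by linear_combination -h3)).resolve_left htwo)
  · intro M hHM hMK g hgM hgH
    have S := hS M hHM hMK
    obtain ⟨y, rfl⟩ : ∃ y, c y = g := (MulAut.conj P).surjective g
    by_cases hG : GoodSym F₀ f (M.comap c)
    · refine su_le hF (by omega) fun v hv => ⟨hv, fun a ha => ?_⟩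
      set u := ((P⁻¹ : GL ι F) : Matrix ι ι F) *ᵥ v
      have hPu : (P : Matrix ι ι F) *ᵥ u = v := gl_mulVec_inv P v
      have huu : f u u = 0 := by show Cfsg.hermForm n F q _ _ = 0; rw [hPu, hv]
      have hmem : c (tv u (a • formVec f u)) ∈ M := (S.centres he he0 hG huu).2 a ha
      convert hmem using 1
      refine gl_ext fun x => ?_
      rw [utv_mulVec (hermForm_isUnitary hF) hv, ← gl_mulVec_inv P x, hconj,
        utv_mulVec hf huu, mulVec_add, mulVec_smul, hPu]
      congr 2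
      rw [← hPu]
      rfl
    · exact absurd ⟨(hsub y).2 (S.rigid he he0 hG hgM), hMK hgM⟩ hgH

end Cfsg.Agent.Lib.SubfieldMax.SymForm
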