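import Cfsg.Agent.Lib.SubfieldMax.SymForm.Good

/-!
Without irrational elements at rational isotropic vectors, every element is rational up to a
scalar.
-/

set_option autoImplicit false

namespace Cfsg.Agent.Lib.SubfieldMax.SymForm

open Matrix Cfsg.Agent.Lib.Subspaces.Transvection Cfsg.Agent.Lib.Subspaces.FormVec
  Cfsg.Agent.Lib.Subspaces.UnitaryForm
  Cfsg.Agent.Lib.SubfieldMax.Linear Cfsg.Agent.Lib.SubfieldMax.RatLin
  Cfsg.Agent.Lib.SubfieldMax.Unitary Cfsg.Agent.Lib.SubfieldMax.Form

variable {ι : Type} [Fintype ι] [DecidableEq ι] {F : Type*} [Field F]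

namespace Sym

variable {σ : F ≃+* F} {F₀ : Subfield F} {f : (ι → F) → (ι → F) → F} {M : Subgroup (GL ι F)}
  (S : Sym σ F₀ f M)
include S

theorem e_sq {e : F} (he : σ e = -e) : e * e ∈ F₀ :=
  (S.fix _).1 (by rw [map_mul, he]; ring)

theorem vec_re_im {e : F} (he : σ e = -e) (he0 : e ≠ 0) {a b : ι → F} (ha : Rat F₀ a) (hb : Rat F₀ b)
    (h : a + e • b = 0) : a = 0 ∧ b = 0 := by
  have h' := fun i => S.re_im he he0 (ha i) (hb i) (by simpa using congrFun h i)
  exact ⟨funext fun i => (h' i).1, funext fun i => (h' i).2⟩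

/-- Three independent rational vectors orthogonal to three given ones. -/
theorem three_orth [Finite F] (φ : Fin 3 → ι → F) (hφ : ∀ i, Rat F₀ (φ i)) :
    ∃ r : Fin 3 → ι → F, (∀ i, Rat F₀ (r i)) ∧ (∀ i j, f (r i) (φ j) = 0) ∧ LinearIndependent F r := by
  have hcard := S.card
  obtain ⟨a, ha, han, hao⟩ := S.orth φ hφ (![] : Fin 0 → ι → F) (fun i => i.elim0) (by omega)
  obtain ⟨b, hb, hbn, hbo⟩ := S.orth φ hφ ![a] (fun i => by fin_cases i; exact ha) (by omega)
  obtain ⟨c, hc, hcn, hco⟩ := S.orth φ hφ ![b, a] (fun i => by fin_cases i; exacts [hb, ha]) (by omega)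
  refine ⟨![c, b, a], fun i => by fin_cases i; exacts [hc, hb, ha],
    fun i j => by fin_cases i; exacts [hco j, hbo j, hao j], ?_⟩
  exact linearIndependent_finCons.2 ⟨linearIndependent_finCons.2
    ⟨linearIndependent_finCons.2 ⟨linearIndependent_empty_type, han⟩, hbn⟩, hcn⟩

/-- The element attached to the image of a rational isotropic vector, against a fixed vector `w`. -/
theorem key [Finite F] (hG : ¬ GoodSym F₀ f M) {g : GL ι F} (hg : g ∈ M) {x r w u : ι → F}
    (hx : Rat F₀ x) (hxx : f x x = 0) (hr : Rat F₀ r) (hrx : f r x = 0) (hw : Rat F₀ w)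
    (hww : f w w = 0) (hw0 : w ≠ 0) (hwa : f w ((g : Matrix ι ι F) *ᵥ x) = 0)
    (hwr : f w ((g : Matrix ι ι F) *ᵥ r) = 0) (hu : Rat F₀ u) (huw : f u w = 0) :
    ModW F₀ w (f u ((g : Matrix ι ι F) *ᵥ x) • ((g : Matrix ι ι F) *ᵥ r)
      - f u ((g : Matrix ι ι F) *ᵥ r) • ((g : Matrix ι ι F) *ᵥ x)
      + (-(f r r) / 2 * f u ((g : Matrix ι ι F) *ᵥ x)) • ((g : Matrix ι ι F) *ᵥ x)) := by
  have hf := S.herm
  set a := (g : Matrix ι ι F) *ᵥ x
  set b := (g : Matrix ι ι F) *ᵥ r
  set k := g * sgen f x r (-(f r r) / 2) * g⁻¹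
  have hk : k ∈ M := M.mul_mem (M.mul_mem hg (S.hR x r hx hr hxx hrx)) (M.inv_mem hg)
  have hS : ∀ v, (k : Matrix ι ι F) *ᵥ v = v + f v a • b - f v b • a + (-(f r r) / 2 * f v a) • a := by
    intro v
    have e1 := S.iso g hg (((g⁻¹ : GL ι F) : Matrix ι ι F) *ᵥ v) x
    have e2 := S.iso g hg (((g⁻¹ : GL ι F) : Matrix ι ι F) *ᵥ v) r
    rw [gl_mulVec_inv] at e1 e2
    rw [gl_mul_mulVec, gl_mul_mulVec, sgen_isS hf hxx hrx _, mulVec_add, mulVec_sub, mulVec_add,
      mulVec_smul, mulVec_smul, mulVec_smul, gl_mulVec_inv, e1, e2]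
  have hkw : (k : Matrix ι ι F) *ᵥ w = w := by
    rw [hS, hwa, hwr]
    simp
  by_contra hn
  have hsu := sgen_isS hf hww huw (-(f u u) / 2)
  have hmem := S.hR w u hw hu hww huw
  have hd := IsS.diff hf hsu (S.iso k hk) hkw hww huw
  refine hG ⟨w, _, _, _, hw, hww, hw0, ?_,
    M.mul_mem (M.inv_mem hmem) (M.mul_mem (M.mul_mem hk hmem) (M.inv_mem hk)), hd, ?_⟩
  · have h1 : f ((k : Matrix ι ι F) *ᵥ u) w = 0 := by rw [← hkw, S.iso k hk, huw]
    rw [form_sub_left S.hl, h1, huw, sub_zero]
  · intro hm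
    apply hn
    convert hm using 1
    rw [hS]
    abel

/-- Images of rational isotropic vectors are rational up to a scalar. -/
theorem point [Finite F] {e : F} (he : σ e = -e) (he0 : e ≠ 0) (hG : ¬ GoodSym F₀ f M) {g : GL ι F}
    (hg : g ∈ M) {x : ι → F} (hx : Rat F₀ x) (hxx : f x x = 0) (hx0 : x ≠ 0) :
    ∃ l : F, l ≠ 0 ∧ Rat F₀ (l • ((g : Matrix ι ι F) *ᵥ x)) := by
  have hf := S.herm
  have he2 := S.e_sq he
  set a := (g : Matrix ι ι F) *ᵥ x with hadef
  obtain ⟨a1, a2, ha1, ha2, hae⟩ := S.split he he0 a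
  by_cases h10 : a1 = 0
  · exact ⟨e⁻¹, inv_ne_zero he0, by rw [hae, h10, zero_add, inv_smul_smul₀ he0]; exact ha2⟩
  by_cases hdep : a2 ∈ Submodule.span F {a1}
  · obtain ⟨t, ht⟩ := Submodule.mem_span_singleton.1 hdep
    have hne : 1 + e * t ≠ 0 := fun h => hx0 (gl_mulVec_injective g (by
      show (g : Matrix ι ι F) *ᵥ x = (g : Matrix ι ι F) *ᵥ 0
      rw [mulVec_zero, ← hadef, hae, ← ht, smul_smul]
      rw [show a1 + (e * t) • a1 = (1 + e * t) • a1 by module, h, zero_smul]))
    refine ⟨(1 + e * t)⁻¹, inv_ne_zero hne, ?_⟩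
    rw [hae, ← ht, smul_smul e t a1, show a1 + (e * t) • a1 = (1 + e * t) • a1 by module,
      inv_smul_smul₀ hne]
    exact ha1
  exfalso
  have hindep : ∀ s t : F, s • a1 + t • a2 = 0 → s = 0 ∧ t = 0 := by
    intro s t h
    have ht : t = 0 := by
      by_contra ht
      refine hdep (Submodule.mem_span_singleton.2 ⟨-(t⁻¹ * s), ?_⟩)
      have := congrArg (t⁻¹ • ·) h
      simp only [smul_add, smul_zero, inv_smul_smul₀ ht, smul_smul] at this
      rw [neg_smul]
      exact (eq_neg_of_add_eq_zero_right this).symm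
    subst ht
    rw [zero_smul, add_zero, smul_eq_zero] at h
    exact ⟨h.resolve_right h10, rfl⟩
  have haa : f a a = 0 := by rw [hadef, S.iso g hg, hxx]
  have hb := S.rat a1 a2 ha1 ha2
  have hd := S.rat a2 a2 ha2 ha2
  have h11 : f a1 a1 = e * e * f a2 a2 := by
    rw [hae, hf.add_left, hf.smul_left, add_right hf, add_right hf, smul_right hf, smul_right hf, he,
      S.comm ha2 ha1] at haa
    linear_combination haa
  have hga : ∀ v, Rat F₀ v → f v a = f v a1 - e * f v a2 := by
    intro v _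
    rw [hae, add_right hf, smul_right hf, he]
    ring
  -- vectors with all products against a set of rational vectors
  by_cases hts : f a2 a2 = 0 ∧ f a1 a2 = 0
  · obtain ⟨d0, b0⟩ := hts
    rw [d0, mul_zero] at h11
    obtain ⟨b1, b1', hb1, hb1', hbe⟩ := S.split he he0 (((g⁻¹ : GL ι F) : Matrix ι ι F) *ᵥ a1)
    obtain ⟨b2, b2', hb2, hb2', hce⟩ := S.split he he0 (((g⁻¹ : GL ι F) : Matrix ι ι F) *ᵥ a2)
    have hxe : x = b1 + (e * e) • b2' + e • (b1' + b2) := by
      rw [← gl_inv_mulVec g x, ← hadef, hae, mulVec_add, mulVec_smul, hbe, hce]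
      module
    obtain ⟨e1, e2⟩ := S.vec_re_im he he0 (a := b1 + (e * e) • b2' - x) (b := b1' + b2)
      (fun i => sub_mem (add_mem (hb1 i) (mul_mem he2 (hb2' i))) (hx i))
      (fun i => add_mem (hb1' i) (hb2 i)) (by linear_combination (norm := module) (-1 : F) • hxe)
    obtain ⟨r, hr, hro, hrli⟩ := S.three_orth ![x, b1', b2']
      (fun i => by fin_cases i; exacts [hx, hb1', hb2'])
    set P : Submodule F (ι → F) := Submodule.span F {a1, a2}
    have hmem : ∀ i, (g : Matrix ι ι F) *ᵥ r i ∈ P := by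
      intro i
      have hrx : f (r i) x = 0 := hro i 0
      have o1 : f (r i) b1' = 0 := hro i 1
      have o2 : f (r i) b2' = 0 := hro i 2
      have o3 : f (r i) b1 = 0 := by
        rw [show b1 = x - (e * e) • b2' by linear_combination (norm := module) e1, sub_right hf,
          smul_right hf, hrx, o2, mul_zero, sub_zero]
      have o4 : f (r i) b2 = 0 := by
        rw [show b2 = (-1 : F) • b1' by linear_combination (norm := module) e2, smul_right hf, o1,
          mul_zero]
      have g1 : f a1 ((g : Matrix ι ι F) *ᵥ r i) = 0 := by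
        refine swap_eq_zero hf ?_
        rw [← gl_mulVec_inv g a1, S.iso g hg, hbe, add_right hf, smul_right hf, o3, o1, mul_zero,
          add_zero]
      have g2 : f a2 ((g : Matrix ι ι F) *ᵥ r i) = 0 := by
        refine swap_eq_zero hf ?_
        rw [← gl_mulVec_inv g a2, S.iso g hg, hce, add_right hf, smul_right hf, o4, o2, mul_zero,
          add_zero]
      have hn1 : a1 ∉ Submodule.span F {a2} := fun hm => by
        obtain ⟨t, ht⟩ := Submodule.mem_span_singleton.1 hm
        exact one_ne_zero (hindep 1 (-t) (by rw [← ht]; module)).1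
      obtain ⟨u, hu, huo, hu2⟩ := S.sep ![a1] (fun i => by fin_cases i; exact ha1) ha2
        (by simpa [Matrix.range_cons] using hdep)
      obtain ⟨u', hu', hu'o, hu'1⟩ := S.sep ![a2] (fun i => by fin_cases i; exact ha2) ha1
        (by simpa [Matrix.range_cons] using hn1)
      have hua1 : f u a1 = 0 := huo 0
      have hu'a2 : f u' a2 = 0 := hu'o 0
      obtain ⟨s, μ, hs, hseq⟩ := S.key hG hg hx hxx (hr i) hrx ha1 h11 h10
        (by rw [hga a1 ha1, h11, b0]; ring) g1 hu hua1
      obtain ⟨s', μ', hs', hseq'⟩ := S.key hG hg hx hxx (hr i) hrx ha2 d0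
        (fun h => hdep (h ▸ Submodule.zero_mem _))
        (by rw [hga a2 ha2, S.comm ha2 ha1, b0, d0]; ring) g2 hu' hu'a2
      rw [← hadef, hga u hu, hua1, hu2, zero_sub, mul_one] at hseq
      rw [← hadef, hga u' hu', hu'a2, hu'1, mul_zero, sub_zero, one_smul] at hseq'
      set gr := (g : Matrix ι ι F) *ᵥ r i
      have hA : a ∈ P := by
        rw [hae]
        exact P.add_mem (Submodule.subset_span (by simp))
          (P.smul_mem _ (Submodule.subset_span (by simp)))
      have hA1 : a1 ∈ P := Submodule.subset_span (by simp)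
      have hA2 : a2 ∈ P := Submodule.subset_span (by simp)
      have q1 : (-e) • gr - s ∈ P := by
        rw [show (-e) • gr - s = f u gr • a - (-(f (r i) (r i)) / 2 * -e) • a + μ • a1 by
          linear_combination (norm := module) hseq]
        exact P.add_mem (P.sub_mem (P.smul_mem _ hA) (P.smul_mem _ hA)) (P.smul_mem _ hA1)
      have q2 : gr - s' ∈ P := by
        rw [show gr - s' = f u' gr • a - (-(f (r i) (r i)) / 2 * 1) • a + μ' • a2 by
          linear_combination (norm := module) hseq']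
        exact P.add_mem (P.sub_mem (P.smul_mem _ hA) (P.smul_mem _ hA)) (P.smul_mem _ hA2)
      have q3 : s + e • s' ∈ P := by
        rw [show s + e • s' = (-1 : F) • (((-e) • gr - s) + e • (gr - s')) by module]
        exact P.smul_mem _ (P.add_mem q1 (P.smul_mem _ q2))
      -- the rational parts lie in the plane
      have q4 : s' ∈ P := by
        obtain ⟨c1, c2, hc⟩ := Submodule.mem_span_pair.1 q3
        obtain ⟨c1r, c1i, h1r, h1i, h1e⟩ := S.split he he0 fun _ : ι => c1
        obtain ⟨c2r, c2i, h2r, h2i, h2e⟩ := S.split he he0 fun _ : ι => c2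
        obtain ⟨j, hj⟩ := Function.ne_iff.1 hx0
        have k1 := congrFun h1e j
        have k2 := congrFun h2e j
        simp only [Pi.add_apply, Pi.smul_apply, smul_eq_mul] at k1 k2
        obtain ⟨-, h'⟩ := S.vec_re_im he he0 (a := c1r j • a1 + c2r j • a2 - s)
          (b := c1i j • a1 + c2i j • a2 - s')
          (fun l => sub_mem (add_mem (mul_mem (h1r j) (ha1 l)) (mul_mem (h2r j) (ha2 l))) (hs l))
          (fun l => sub_mem (add_mem (mul_mem (h1i j) (ha1 l)) (mul_mem (h2i j) (ha2 l))) (hs' l))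
          (by rw [k1, k2] at hc; linear_combination (norm := module) hc)
        rw [← sub_eq_zero.1 h']
        exact P.add_mem (P.smul_mem _ hA1) (P.smul_mem _ hA2)
      have := P.add_mem q2 q4
      rwa [sub_add_cancel] at this
    have hle : Submodule.span F (Set.range fun i => (g : Matrix ι ι F) *ᵥ r i) ≤ P :=
      Submodule.span_le.2 (Set.range_subset_iff.2 hmem)
    have h1 := Submodule.finrank_mono hle
    have h2 := finrank_span_eq_card (hrli.map' (Matrix.mulVecLin (g : Matrix ι ι F))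
      (LinearMap.ker_eq_bot.2 (gl_mulVec_injective g)))
    have h3 : Module.finrank F P ≤ 2 := by
      have := finrank_span_range_le (F := F) ![a1, a2]
      rwa [Matrix.range_cons_cons_empty] at this
    rw [show (Matrix.mulVecLin (g : Matrix ι ι F)) ∘ r = fun i => (g : Matrix ι ι F) *ᵥ r i from rfl,
      Fintype.card_fin] at h2
    omega
  · obtain ⟨w, hw, hww, hwn, hwo⟩ := S.iso_out ![a1, a2] (fun i => by fin_cases i; exacts [ha1, ha2])
      (![] : Fin 0 → ι → F) (fun i => i.elim0) (fun i => i.elim0) (by have := S.card; omega)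
    have hw0 : w ≠ 0 := by simpa using hwn
    have hw1 : f w a1 = 0 := hwo 0
    have hw2 : f w a2 = 0 := hwo 1
    have hwa : f w a = 0 := by rw [hga w hw, hw1, hw2]; ring
    have hdet : e * e * f a2 a2 * f a2 a2 - f a1 a2 * f a1 a2 ≠ 0 := by
      intro h
      rcases eq_or_ne (f a2 a2) 0 with h0 | h0
      · refine hts ⟨h0, ?_⟩
        rw [h0] at h
        exact mul_self_eq_zero.1 (by linear_combination -h)
      · have hF : f a1 a2 / f a2 a2 ∈ F₀ := div_mem hb hd
        have h' := S.sig hF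
        rcases mul_self_eq_mul_self_iff.1
          (show f a1 a2 * f a1 a2 = (e * f a2 a2) * (e * f a2 a2) by linear_combination -h) with h1 | h1
        · rw [h1, mul_div_cancel_right₀ _ h0, he] at h'
          exact he0 ((mul_eq_zero.1 (show 2 * e = 0 by linear_combination -h')).resolve_left S.two)
        · rw [h1, neg_div, mul_div_cancel_right₀ _ h0, map_neg, he] at h'
          exact he0 ((mul_eq_zero.1 (show 2 * e = 0 by linear_combination h')).resolve_left S.two)
    have hind : ∀ s t l : F, s • a1 + t • a2 + l • w = 0 → s = 0 ∧ t = 0 := by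
      intro s t l h
      have k1 := congrArg (fun z => f z a1) h
      have k2 := congrArg (fun z => f z a2) h
      simp only [hf.add_left, hf.smul_left, form_zero_left S.hl, hw1, hw2, h11, S.comm ha2 ha1,
        mul_zero, add_zero] at k1 k2
      exact ⟨(mul_eq_zero.1 (show s * (e * e * f a2 a2 * f a2 a2 - f a1 a2 * f a1 a2) = 0 by
          linear_combination (f a2 a2) * k1 - (f a1 a2) * k2)).resolve_right hdet,
        (mul_eq_zero.1 (show t * (e * e * f a2 a2 * f a2 a2 - f a1 a2 * f a1 a2) = 0 by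
          linear_combination (e * e * f a2 a2) * k2 - (f a1 a2) * k1)).resolve_right hdet⟩
    obtain ⟨d1, d2, hd1, hd2, hde⟩ := S.split he he0 (((g⁻¹ : GL ι F) : Matrix ι ι F) *ᵥ w)
    obtain ⟨r, hr, hro, hrli⟩ := S.three_orth ![x, d1, d2]
      (fun i => by fin_cases i; exacts [hx, hd1, hd2])
    set T : Submodule F (ι → F) := Submodule.span F (Set.range ![w, a1, a2])
    have hmem : ∀ i, (g : Matrix ι ι F) *ᵥ r i ∈ T := by
      intro i
      have hrx : f (r i) x = 0 := hro i 0
      have o1 : f (r i) d1 = 0 := hro i 1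
      have o2 : f (r i) d2 = 0 := hro i 2
      have hwr : f w ((g : Matrix ι ι F) *ᵥ r i) = 0 := by
        refine swap_eq_zero hf ?_
        rw [← gl_mulVec_inv g w, S.iso g hg, hde, add_right hf, smul_right hf, o1, o2, mul_zero,
          add_zero]
      set gr := (g : Matrix ι ι F) *ᵥ r i
      have hperp : ∀ u, Rat F₀ u → (∀ j, f u (![w, a1, a2] j) = 0) → f u gr = 0 := by
        intro u hu huo
        have u0 : f u w = 0 := huo 0
        have u1 : f u a1 = 0 := huo 1
        have u2 : f u a2 = 0 := huo 2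
        obtain ⟨s, μ, hs, hseq⟩ := S.key hG hg hx hxx (hr i) hrx hw hww hw0 hwa hwr hu u0
        rw [← hadef, hga u hu, u1, u2] at hseq
        obtain ⟨νr, νi, hνr, hνi, hνe⟩ := S.split he he0 fun _ : ι => f u gr
        obtain ⟨μr, μi, hμr, hμi, hμe⟩ := S.split he he0 fun _ : ι => μ
        obtain ⟨j, hj⟩ := Function.ne_iff.1 hx0
        have k1 := congrFun hνe j
        have k2 := congrFun hμe j
        simp only [Pi.add_apply, Pi.smul_apply, smul_eq_mul] at k1 k2
        obtain ⟨-, h'⟩ := S.vec_re_im he he0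
          (a := νr j • a1 + (e * e * νi j) • a2 + μr j • w + s)
          (b := νi j • a1 + νr j • a2 + μi j • w)
          (fun l => add_mem (add_mem (add_mem (mul_mem (hνr j) (ha1 l))
            (mul_mem (mul_mem he2 (hνi j)) (ha2 l))) (mul_mem (hμr j) (hw l))) (hs l))
          (fun l => add_mem (add_mem (mul_mem (hνi j) (ha1 l)) (mul_mem (hνr j) (ha2 l)))
            (mul_mem (hμi j) (hw l)))
          (by
            rw [hae, k2] at hseq
            rw [k1] at hseq
            linear_combination (norm := module) (-1 : F) • hseq)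
        obtain ⟨hi, hr'⟩ := hind _ _ _ h'
        rw [k1, hi, hr']
        ring
      by_contra hn
      obtain ⟨z1, z2, hz1, hz2, hze⟩ := S.split he he0 gr
      have hT : ∀ z, Rat F₀ z → z ∉ T → ∃ u, Rat F₀ u ∧ (∀ j, f u (![w, a1, a2] j) = 0) ∧ f u z = 1 :=
        fun z hz hzn => S.sep ![w, a1, a2] (fun j => by fin_cases j; exacts [hw, ha1, ha2]) hz hzn
      have hboth : ∀ u, Rat F₀ u → (∀ j, f u (![w, a1, a2] j) = 0) → f u z1 = 0 ∧ f u z2 = 0 := by
        intro u hu huo
        have h := hperp u hu huo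
        rw [hze, add_right hf, smul_right hf, he] at h
        have := S.re_im he he0 (S.rat u z1 hu hz1) (neg_mem (S.rat u z2 hu hz2))
          (by linear_combination h)
        exact ⟨this.1, neg_eq_zero.1 this.2⟩
      by_cases hz1T : z1 ∈ T
      · by_cases hz2T : z2 ∈ T
        · exact hn (hze ▸ T.add_mem hz1T (T.smul_mem _ hz2T))
        · obtain ⟨u, hu, huo, h1⟩ := hT z2 hz2 hz2T
          exact one_ne_zero (h1.symm.trans (hboth u hu huo).2)
      · obtain ⟨u, hu, huo, h1⟩ := hT z1 hz1 hz1T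
        exact one_ne_zero (h1.symm.trans (hboth u hu huo).1)
    have hle : Submodule.span F (Set.range fun i => (g : Matrix ι ι F) *ᵥ r i) ≤ T :=
      Submodule.span_le.2 (Set.range_subset_iff.2 hmem)
    have h2 := finrank_span_eq_card (hrli.map' (Matrix.mulVecLin (g : Matrix ι ι F))
      (LinearMap.ker_eq_bot.2 (gl_mulVec_injective g)))
    have h3 : Module.finrank F T ≤ 3 := finrank_span_range_le _
    rw [show (Matrix.mulVecLin (g : Matrix ι ι F)) ∘ r = fun i => (g : Matrix ι ι F) *ᵥ r i from rfl,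
      Fintype.card_fin] at h2
    have heq := Submodule.eq_of_le_of_finrank_le hle (by omega)
    have hperp : ∀ v ∈ T, f v a = 0 := by
      rw [← heq]
      intro v hv
      induction hv using Submodule.span_induction with
      | mem v hv => obtain ⟨i, rfl⟩ := hv; show f _ ((g : Matrix ι ι F) *ᵥ x) = 0; rw [S.iso g hg]; exact hro i 0
      | zero => exact form_zero_left S.hl _
      | add p q _ _ h1 h2 => rw [hf.add_left, h1, h2, add_zero]
      | smul c p _ h1 => rw [hf.smul_left, h1, mul_zero]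
    have p1 := hperp a1 (Submodule.subset_span ⟨1, rfl⟩)
    rw [hga a1 ha1, h11] at p1
    obtain ⟨q1, q2⟩ := S.re_im he he0 (mul_mem he2 hd) (neg_mem hb) (by linear_combination p1)
    exact hts ⟨(mul_eq_zero.1 q1).resolve_left (mul_ne_zero he0 he0), neg_eq_zero.1 q2⟩

omit S in
theorem div_mem_of (S : Sym σ F₀ f M) {a b : F} (hb : b ≠ 0) (h : a * σ b ∈ F₀) : a / b ∈ F₀ := by
  have hn : b * σ b ∈ F₀ := (S.fix _).1 (by rw [map_mul, S.herm.involutive]; ring)
  have hσ : σ b ≠ 0 := by simpa using hb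
  rw [← mul_div_mul_right a b hσ]
  exact div_mem h hn

/-- Elements of a group without irrational elements are rational. -/
theorem rigid [Finite F] {e : F} (he : σ e = -e) (he0 : e ≠ 0) (hG : ¬ GoodSym F₀ f M) {g : GL ι F}
    (hg : g ∈ M) : RatUpTo F₀ g := by
  have hf := S.herm
  obtain ⟨x, hx, hxx, hxn, -⟩ := S.iso_out (![] : Fin 0 → ι → F) (fun i => i.elim0)
    (![] : Fin 0 → ι → F) (fun i => i.elim0) (fun i => i.elim0) (by have := S.card; omega)
  have hx0 : x ≠ 0 := by simpa using hxn
  obtain ⟨lx, hlx, hxr⟩ := S.point he he0 hG hg hx hxx hx0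
  have step : ∀ (u v : ι → F) (a : F), Rat F₀ u → Rat F₀ v → f v v = 0 → a ≠ 0 →
      Rat F₀ (a • ((g : Matrix ι ι F) *ᵥ u)) → f u v ≠ 0 → Rat F₀ (a • ((g : Matrix ι ι F) *ᵥ v)) := by
    intro u v a hu hv hvv ha hur huv
    have hv0 : v ≠ 0 := fun h => huv (by rw [h, zero_right hf])
    obtain ⟨b, hb, hvr⟩ := S.point he he0 hG hg hv hvv hv0
    have h1 := S.rat _ _ hur hvr
    rw [hf.smul_left, smul_right hf, S.iso g hg, ← mul_assoc] at h1
    have h2 := div_mem h1 (S.rat u v hu hv)
    rw [mul_div_cancel_right₀ _ huv] at h2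
    have h3 := hvr.smul (S.div_mem_of hb h2)
    rwa [smul_smul, div_mul_cancel₀ _ hb] at h3
  have hcol : ∀ v, Rat F₀ v → f v v = 0 → Rat F₀ (lx • ((g : Matrix ι ι F) *ᵥ v)) := by
    intro v hv hvv
    by_cases hxv : f x v = 0
    swap
    · exact step x v lx hx hv hvv hlx hxr hxv
    by_cases hvm : v ∈ Submodule.span F {x}
    · obtain ⟨d, rfl⟩ := Submodule.mem_span_singleton.1 hvm
      obtain ⟨j, hj⟩ := Function.ne_iff.1 hx0
      have hd : d ∈ F₀ := by
        have := div_mem (hv j) (hx j)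
        rwa [Pi.smul_apply, smul_eq_mul, mul_div_cancel_right₀ _ (show x j ≠ 0 from hj)] at this
      rw [mulVec_smul, smul_comm]
      exact hxr.smul hd
    · have hn : x ∉ Submodule.span F (Set.range ![v - x]) := by
        intro hm
        rw [show Set.range ![v - x] = {v - x} by simp [Matrix.range_cons]] at hm
        obtain ⟨c, hc⟩ := Submodule.mem_span_singleton.1 hm
        have hc0 : c ≠ 0 := fun e => hx0 (by rw [← hc, e, zero_smul])
        refine hvm (Submodule.mem_span_singleton.2 ⟨c⁻¹ + 1, ?_⟩)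
        rw [add_smul, one_smul]
        conv_lhs => arg 1; rw [← hc, inv_smul_smul₀ hc0]
        abel
      obtain ⟨z, hz, hzz, hzo, hzx⟩ := S.dual_iso ![v - x] (fun i => by fin_cases i; exact hv.sub hx)
        hx hn hxx (fun i => by fin_cases i; show f x (v - x) = 0; rw [sub_right hf, hxv, hxx, sub_zero])
      have hzv : f z v = 1 := by
        have h0 : f z (v - x) = 0 := hzo 0
        rw [sub_right hf, hzx] at h0
        exact sub_eq_zero.1 h0
      exact step z v lx hz hv hvv hlx
        (step x z lx hx hz hzz hlx hxr (fun h => one_ne_zero (hzx.symm.trans (swap_eq_zero hf h))))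
        (by rw [hzv]; exact one_ne_zero)
  obtain ⟨z, hz, hzz, -, hzx⟩ := S.dual_iso (![] : Fin 0 → ι → F) (fun i => i.elim0) hx
    (by simpa using hx0) hxx (fun i => i.elim0)
  have hxz : f x z = 1 := by rw [S.comm hx hz, hzx]
  refine ⟨lx, hlx, fun i j => ?_⟩
  set y : ι → F := Pi.single j 1 with hydef
  have hy : Rat F₀ y := Rat.single j (one_mem F₀)
  have k1 := S.rat y z hy hz
  have k2 := S.rat y x hy hx
  set y' := y - f y z • x - f y x • z
  have hy' : Rat F₀ y' := (hy.sub (hx.smul k1)).sub (hz.smul k2)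
  have o1 : f y' x = 0 := by
    simp only [y', form_sub_left S.hl, hf.smul_left, hxx, hzx]; ring
  have o2 : f y' z = 0 := by
    simp only [y', form_sub_left S.hl, hf.smul_left, hxz, hzz]; ring
  have k3 := S.half_mem hy'
  set y'' := y' + (-(f y' y') / 2) • x + z
  have hy'' : Rat F₀ y'' := fun l => add_mem (add_mem (hy' l) (mul_mem k3 (hx l))) (hz l)
  have hy''i : f y'' y'' = 0 := by
    simp only [y'', hf.add_left, add_right hf, hf.smul_left, smul_right hf, hxx, hzz, hzx, hxz, o1,
      o2, swap_eq_zero hf o1, swap_eq_zero hf o2, S.sig k3]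
    have := S.two
    field_simp
    ring
  have hsum : y = y'' + (f y z - -(f y' y') / 2) • x + (f y x - 1) • z := by
    simp only [y'', y']
    module
  have h := fun l => add_mem (add_mem (hcol y'' hy'' hy''i l)
    (mul_mem (sub_mem k1 k3) (hxr l))) (mul_mem (sub_mem k2 (one_mem _)) (hcol z hz hzz l))
  have hi := h i
  convert hi using 1
  rw [show (g : Matrix ι ι F) i j = ((g : Matrix ι ι F) *ᵥ y) i by rw [hydef, mulVec_single_one]; rfl]
  nth_rw 1 [hsum]
  simp only [mulVec_add, mulVec_smul, Pi.add_apply, Pi.smul_apply, smul_eq_mul]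
  ring

end Sym

end Cfsg.Agent.Lib.SubfieldMax.SymForm
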