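import Cfsg.Agent.Lib.SubfieldMax.Unitary.Eich
import Cfsg.Agent.Lib.SubfieldMax.RatLin
import Cfsg.Agent.Lib.SubfieldMax.Form

/-!
A unitary form in odd characteristic that is symmetric on the vectors over the fixed field, in
dimension at least six: rational isotropic vectors and the elements attached to them.
-/

set_option autoImplicit false

namespace Cfsg.Agent.Lib.SubfieldMax.SymForm

open Matrix Cfsg.Agent.Lib.Subspaces.Transvection Cfsg.Agent.Lib.Subspaces.FormVec
  Cfsg.Agent.Lib.Subspaces.UnitaryForm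
  Cfsg.Agent.Lib.SubfieldMax.Linear Cfsg.Agent.Lib.SubfieldMax.RatLin

variable {ι : Type} [Fintype ι] [DecidableEq ι] {F : Type*} [Field F]

/-- `u ↦ u + f(u,w) x - f(u,x) w + c f(u,w) w`. -/
noncomputable def sgen (f : (ι → F) → (ι → F) → F) (w x : ι → F) (c : F) : GL ι F :=
  tv x (formVec f w) * tv w (c • formVec f w - formVec f x)

section

variable {σ : F ≃+* F} {f : (ι → F) → (ι → F) → F} (hf : Cfsg.Geo.IsUnitaryForm σ f)
  {w x : ι → F} (hww : f w w = 0) (hxw : f x w = 0)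
include hf hww hxw

theorem sgen_dots (c : F) :
    formVec f w ⬝ᵥ x = 0 ∧ (c • formVec f w - formVec f x) ⬝ᵥ w = 0 := by
  have hl := isLinearLeft_of_unitary hf
  refine ⟨by rw [formVec_dot hl, hxw], ?_⟩
  rw [sub_dotProduct, smul_dotProduct, formVec_dot hl, formVec_dot hl, hww, swap_eq_zero hf hxw]
  simp

theorem sgen_isS (c : F) : Cfsg.Agent.Lib.SubfieldMax.Unitary.IsS f w x c (sgen f w x c) := by
  have hl := isLinearLeft_of_unitary hf
  obtain ⟨h1, h2⟩ := sgen_dots hf hww hxw c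
  intro u
  rw [sgen, gl_mul_mulVec, tv_mulVec h2, tv_mulVec h1]
  simp only [sub_dotProduct, smul_dotProduct, formVec_dot hl, hf.add_left, hf.smul_left, hww,
    smul_eq_mul, mul_zero, add_zero]
  module

theorem sgen_isometry {c : F} (hc : c + σ c = -f x x) (u v : ι → F) :
    f ((sgen f w x c : Matrix ι ι F) *ᵥ u) ((sgen f w x c : Matrix ι ι F) *ᵥ v) = f u v := by
  rw [sgen_isS hf hww hxw c u, sgen_isS hf hww hxw c v]
  simp only [form_sub_left (isLinearLeft_of_unitary hf), sub_right hf, hf.add_left, add_right hf,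
    hf.smul_left, smul_right hf, hww, hxw, swap_eq_zero hf hxw, map_mul, ← hf.herm]
  linear_combination (f u w * f w v) * hc

theorem sgen_entries {F₀ : Subfield F} (hrat : ∀ u v, Rat F₀ u → Rat F₀ v → f u v ∈ F₀)
    (hw : Rat F₀ w) (hx : Rat F₀ x) {c : F} (hc : c ∈ F₀) (i j : ι) :
    (sgen f w x c : Matrix ι ι F) i j ∈ F₀ := by
  obtain ⟨h1, h2⟩ := sgen_dots hf hww hxw c
  have hv : ∀ v, Rat F₀ v → Rat F₀ (formVec f v) := fun v hv j =>
    hrat _ _ (Rat.single j (one_mem _)) hv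
  have he : ∀ {v φ : ι → F}, φ ⬝ᵥ v = 0 → Rat F₀ v → Rat F₀ φ → ∀ i j,
      (tv v φ : Matrix ι ι F) i j ∈ F₀ := by
    intro v φ h hv hφ i j
    rw [coe_tv h, Matrix.add_apply, vecMulVec_apply]
    refine add_mem ?_ (mul_mem (hv i) (hφ j))
    by_cases hij : i = j
    · subst hij; rw [Matrix.one_apply_eq]; exact one_mem _
    · rw [Matrix.one_apply_ne hij]; exact zero_mem _
  rw [sgen, Units.val_mul, Matrix.mul_apply]
  exact sum_mem fun k _ => mul_mem (he h1 hx (hv w hw) i k)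
    (he h2 hw (((hv w hw).smul hc).sub (hv x hx)) k j)

end

theorem sgen_mem_specialLinear (f : (ι → F) → (ι → F) → F) (w x : ι → F) (c : F) :
    sgen f w x c ∈ Cfsg.Geo.specialLinear ι F :=
  mul_mem (tv_mem_specialLinear _ _) (tv_mem_specialLinear _ _)

/-- Standing data. -/
structure Sym (σ : F ≃+* F) (F₀ : Subfield F) (f : (ι → F) → (ι → F) → F)
    (M : Subgroup (GL ι F)) : Prop where
  herm : Cfsg.Geo.IsUnitaryForm σ f
  fix : ∀ x : F, σ x = x ↔ x ∈ F₀
  two : (2 : F) ≠ 0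
  rat : ∀ u v, Rat F₀ u → Rat F₀ v → f u v ∈ F₀
  iso : ∀ g ∈ M, ∀ u v, f ((g : Matrix ι ι F) *ᵥ u) ((g : Matrix ι ι F) *ᵥ v) = f u v
  hR : ∀ w r, Rat F₀ w → Rat F₀ r → f w w = 0 → f r w = 0 → sgen f w r (-(f r r) / 2) ∈ M
  card : 6 ≤ Fintype.card ι

namespace Sym

variable {σ : F ≃+* F} {F₀ : Subfield F} {f : (ι → F) → (ι → F) → F} {M : Subgroup (GL ι F)}
  (S : Sym σ F₀ f M)
include S

theorem hl : IsLinearLeft f := isLinearLeft_of_unitary S.herm

theorem two_mem : (2 : F) ∈ F₀ := by rw [← one_add_one_eq_two]; exact add_mem (one_mem _) (one_mem _)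

theorem sig {a : F} (ha : a ∈ F₀) : σ a = a := (S.fix a).2 ha

theorem comm {u v : ι → F} (hu : Rat F₀ u) (hv : Rat F₀ v) : f u v = f v u := by
  rw [S.herm.herm, S.sig (S.rat v u hv hu)]

theorem re_im {e a b : F} (he : σ e = -e) (he0 : e ≠ 0) (ha : a ∈ F₀) (hb : b ∈ F₀)
    (h : a + e * b = 0) : a = 0 ∧ b = 0 := by
  have h' := congrArg σ h
  rw [map_add, map_mul, he, S.sig ha, S.sig hb, map_zero] at h'
  have h2b : 2 * (e * b) = 0 := by linear_combination h - h'
  have hb0 : b = 0 := (mul_eq_zero.1 ((mul_eq_zero.1 h2b).resolve_left S.two)).resolve_left he0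
  subst hb0
  exact ⟨by simpa using h, rfl⟩

theorem split {e : F} (he : σ e = -e) (he0 : e ≠ 0) (v : ι → F) :
    ∃ v1 v2 : ι → F, Rat F₀ v1 ∧ Rat F₀ v2 ∧ v = v1 + e • v2 := by
  have h2 := S.two
  refine ⟨fun i => (v i + σ (v i)) / 2, fun i => (v i - σ (v i)) / (2 * e),
    fun i => (S.fix _).1 ?_, fun i => (S.fix _).1 ?_, funext fun i => ?_⟩
  · simp only [map_div₀, map_add, S.herm.involutive, map_ofNat]; ring
  · simp only [map_div₀, map_sub, map_mul, S.herm.involutive, map_ofNat, he]; field_simp; ring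
  · simp only [Pi.add_apply, Pi.smul_apply, smul_eq_mul]; field_simp; ring

/-- Separation by rational vectors. -/
theorem sep [Finite F] {k : ℕ} (u : Fin k → ι → F) (hu : ∀ i, Rat F₀ (u i)) {s : ι → F}
    (hs : Rat F₀ s) (hns : s ∉ Submodule.span F (Set.range u)) :
    ∃ y : ι → F, Rat F₀ y ∧ (∀ i, f y (u i) = 0) ∧ f y s = 1 := by
  obtain ⟨χ, hχ, hχu, hχs⟩ := exists_sep u hu hs hns
  obtain ⟨y, hy, rfl⟩ := exists_rat_formVec S.hl (add_right S.herm) S.herm.nondegenerate S.rat hχ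
  refine ⟨y, hy, fun i => ?_, ?_⟩
  · refine swap_eq_zero S.herm ?_
    rw [← formVec_dot S.hl]; exact hχu i
  · rw [S.comm hy hs, ← formVec_dot S.hl]; exact hχs

/-- Rational vectors orthogonal to few, outside the span of few. -/
theorem orth [Finite F] {k l : ℕ} (φ : Fin k → ι → F) (hφ : ∀ i, Rat F₀ (φ i)) (u : Fin l → ι → F)
    (hu : ∀ i, Rat F₀ (u i)) (h : k + l < Fintype.card ι) :
    ∃ z : ι → F, Rat F₀ z ∧ z ∉ Submodule.span F (Set.range u) ∧ ∀ i, f z (φ i) = 0 := by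
  obtain ⟨z, hz, hzn, hzφ⟩ := exists_orth_not_mem (fun i => formVec f (φ i))
    (fun i j => S.rat _ _ (Rat.single j (one_mem _)) (hφ i)) u hu h
  exact ⟨z, hz, hzn, fun i => by rw [← formVec_dot S.hl]; exact hzφ i⟩

/-- An anisotropic rational vector orthogonal to two. -/
theorem aniso [Finite F] {a b : ι → F} (ha : Rat F₀ a) (hb : Rat F₀ b) :
    ∃ y, Rat F₀ y ∧ f y a = 0 ∧ f y b = 0 ∧ f y y ≠ 0 := by
  obtain ⟨y, hy, hyn, hyo⟩ := S.orth ![a, b] (fun i => by fin_cases i; exacts [ha, hb])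
    ![a, b] (fun i => by fin_cases i; exacts [ha, hb]) (by have := S.card; omega)
  by_cases h1 : f y y = 0
  · obtain ⟨w, hw, hwo, hwy⟩ := S.sep ![a, b] (fun i => by fin_cases i; exacts [ha, hb]) hy hyn
    by_cases h2 : f w w = 0
    · refine ⟨y + w, fun i => add_mem (hy i) (hw i), ?_, ?_, ?_⟩
      · rw [S.herm.add_left, show f y a = 0 from hyo 0, show f w a = 0 from hwo 0, add_zero]
      · rw [S.herm.add_left, show f y b = 0 from hyo 1, show f w b = 0 from hwo 1, add_zero]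
      · rw [S.herm.add_left, add_right S.herm, add_right S.herm, h1, h2, S.comm hy hw, hwy]
        simpa [one_add_one_eq_two] using S.two
    · exact ⟨w, hw, hwo 0, hwo 1, h2⟩
  · exact ⟨y, hy, hyo 0, hyo 1, h1⟩

/-- A rational isotropic vector orthogonal to `k` and outside the span of `l` of them. -/
theorem iso_out [Finite F] {k l : ℕ} (φ : Fin k → ι → F) (hφ : ∀ i, Rat F₀ (φ i))
    (u : Fin l → ι → F) (hu : ∀ i, Rat F₀ (u i))
    (hsp : ∀ i, u i ∈ Submodule.span F (Set.range φ)) (h : k + 2 + l < Fintype.card ι) :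
    ∃ z, Rat F₀ z ∧ f z z = 0 ∧ z ∉ Submodule.span F (Set.range u) ∧ ∀ i, f z (φ i) = 0 := by
  obtain ⟨y1, hy1, h1n, h1o⟩ := S.orth φ hφ u hu (by omega)
  by_cases q1 : f y1 y1 = 0
  · exact ⟨y1, hy1, q1, h1n, h1o⟩
  obtain ⟨y2, hy2, h2n, h2o⟩ := S.orth (Fin.cons y1 φ) (Fin.cases hy1 hφ) u hu (by omega)
  have h21 : f y2 y1 = 0 := by simpa using h2o 0
  have h2φ : ∀ i, f y2 (φ i) = 0 := fun i => by simpa using h2o i.succ
  by_cases q2 : f y2 y2 = 0
  · exact ⟨y2, hy2, q2, h2n, h2φ⟩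
  obtain ⟨y, hy, hyn, hyo⟩ := S.orth (Fin.cons y2 (Fin.cons y1 φ)) (Fin.cases hy2 (Fin.cases hy1 hφ))
    u hu (by omega)
  have hy2' : f y y2 = 0 := by simpa using hyo 0
  have hy1' : f y y1 = 0 := by simpa using hyo (Fin.succ 0)
  have hyφ : ∀ i, f y (φ i) = 0 := fun i => by simpa using hyo (Fin.succ (Fin.succ i))
  obtain ⟨⟨a, ha⟩, ⟨b, hb⟩, hab⟩ := exists_quad_root (⟨f y y, S.rat y y hy hy⟩ : F₀)
    ⟨f y1 y1, S.rat _ _ hy1 hy1⟩ ⟨f y2 y2, S.rat _ _ hy2 hy2⟩
    (fun e => q1 (congrArg Subtype.val e)) (fun e => q2 (congrArg Subtype.val e))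
  have hab' : f y y + f y1 y1 * a ^ 2 + f y2 y2 * b ^ 2 = 0 := congrArg Subtype.val hab
  refine ⟨y + a • y1 + b • y2, fun i => add_mem (add_mem (hy i) (mul_mem ha (hy1 i)))
    (mul_mem hb (hy2 i)), ?_, fun hm => ?_, fun i => ?_⟩
  · simp only [S.herm.add_left, add_right S.herm, S.herm.smul_left, smul_right S.herm, S.sig ha,
      S.sig hb, hy1', h21, hy2', swap_eq_zero S.herm hy1', swap_eq_zero S.herm h21,
      swap_eq_zero S.herm hy2']
    linear_combination hab'
  · have hperp : ∀ v, (∀ i, f v (φ i) = 0) → f (y + a • y1 + b • y2) v = 0 := fun v hv => by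
      refine Submodule.span_induction (p := fun x _ => f x v = 0) ?_ (form_zero_left S.hl v)
        (fun x y _ _ hx hy => by rw [S.herm.add_left, hx, hy, add_zero])
        (fun c x _ hx => by rw [S.herm.smul_left, hx, mul_zero])
        (Submodule.span_le.2 (Set.range_subset_iff.2 hsp) hm)
      rintro _ ⟨i, rfl⟩
      exact swap_eq_zero S.herm (hv i)
    have e1 := hperp y1 h1o
    have e2 := hperp y2 h2φ
    simp only [S.herm.add_left, S.herm.smul_left, hy1', hy2', h21, swap_eq_zero S.herm h21, mul_zero,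
      add_zero, zero_add, mul_eq_zero, q1, q2, or_false] at e1 e2
    exact hyn (by simpa [e1, e2] using hm)
  · rw [S.herm.add_left, S.herm.add_left, S.herm.smul_left, S.herm.smul_left, hyφ, h1o, h2φ]
    ring

/-- A dual isotropic vector for an isotropic vector orthogonal to the given ones. -/
theorem dual_iso [Finite F] {k : ℕ} (u : Fin k → ι → F) (hu : ∀ i, Rat F₀ (u i)) {s : ι → F}
    (hs : Rat F₀ s) (hns : s ∉ Submodule.span F (Set.range u)) (hss : f s s = 0)
    (hsu : ∀ i, f s (u i) = 0) :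
    ∃ y, Rat F₀ y ∧ f y y = 0 ∧ (∀ i, f y (u i) = 0) ∧ f y s = 1 := by
  have hf := S.herm
  obtain ⟨y, hy, hyu, hys⟩ := S.sep u hu hs hns
  have ht : -(f y y) / 2 ∈ F₀ := div_mem (neg_mem (S.rat y y hy hy)) S.two_mem
  refine ⟨y + (-(f y y) / 2) • s, fun i => add_mem (hy i) (mul_mem ht (hs i)), ?_, fun i => ?_, ?_⟩
  · rw [expand_add_smul hf, hss, ← S.comm hy hs, hys, mul_one, S.sig ht]
    have := S.two
    field_simp
    ring
  · rw [hf.add_left, hf.smul_left, hyu, hsu, mul_zero, add_zero]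
  · rw [hf.add_left, hf.smul_left, hys, hss, mul_zero, add_zero]

/-- A rational isotropic vector orthogonal to an isotropic one and not to a given vector. -/
theorem iso_pair [Finite F] {w y : ι → F} (hw : Rat F₀ w) (hww : f w w = 0) (hy : Rat F₀ y)
    (hyn : y ∉ Submodule.span F (Set.range ![w])) :
    ∃ p, Rat F₀ p ∧ f p p = 0 ∧ f p w = 0 ∧ f p y ≠ 0 := by
  have hf := S.herm
  have hone : ∀ i, Rat F₀ ((![w] : Fin 1 → ι → F) i) := fun i => by fin_cases i; exact hw
  obtain ⟨u, hu, huu, hun, huo⟩ := S.iso_out ![w] hone ![w] hone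
    (fun i => Submodule.subset_span ⟨i, rfl⟩) (by have := S.card; omega)
  have huw : f u w = 0 := huo 0
  by_cases huy : f u y = 0
  swap
  · exact ⟨u, hu, huu, huw, huy⟩
  by_cases hm : u ∈ Submodule.span F (Set.range ![w, y])
  · rw [Matrix.range_cons_cons_empty] at hm
    obtain ⟨a, b, hab⟩ := Submodule.mem_span_pair.1 hm
    obtain ⟨q, hq, hqq, hqo, hqu⟩ := S.dual_iso ![w] hone hu hun huu (fun i => by fin_cases i; exact huw)
    refine ⟨q, hq, hqq, hqo 0, fun e => ?_⟩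
    rw [← hab, add_right hf, smul_right hf, smul_right hf, show f q w = 0 from hqo 0, e, mul_zero,
      mul_zero, add_zero] at hqu
    exact zero_ne_one hqu
  · obtain ⟨z, hz, hzo, hzu⟩ := S.sep ![w, y] (fun i => by fin_cases i; exacts [hw, hy]) hu hm
    obtain ⟨c, hc, hco, hcy⟩ := S.sep ![w] hone hy hyn
    have hzy : f z y = 0 := hzo 1
    set c' := c + (1 - f c u) • z with hc'
    have hk : 1 - f c u ∈ F₀ := sub_mem (one_mem _) (S.rat _ _ hc hu)
    have hc'r : Rat F₀ c' := fun i => add_mem (hc i) (mul_mem hk (hz i))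
    have hc'u : f c' u = 1 := by rw [hc', hf.add_left, hf.smul_left, hzu]; ring
    have hc'y : f c' y = 1 := by rw [hc', hf.add_left, hf.smul_left, hzy, hcy]; ring
    have hc'w : f c' w = 0 := by
      rw [hc', hf.add_left, hf.smul_left, show f c w = 0 from hco 0, show f z w = 0 from hzo 0]; ring
    have ht : -(f c' c') / 2 ∈ F₀ := div_mem (neg_mem (S.rat _ _ hc'r hc'r)) S.two_mem
    refine ⟨c' + (-(f c' c') / 2) • u, fun i => add_mem (hc'r i) (mul_mem ht (hu i)), ?_, ?_, ?_⟩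
    · rw [expand_add_smul hf, huu, ← S.comm hc'r hu, hc'u, mul_one, S.sig ht]
      have := S.two
      field_simp
      ring
    · rw [hf.add_left, hf.smul_left, hc'w, huw, mul_zero, add_zero]
    · rw [hf.add_left, hf.smul_left, hc'y, huy, mul_zero, add_zero]
      exact one_ne_zero

end Sym

end Cfsg.Agent.Lib.SubfieldMax.SymForm
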